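import Cfsg.Agent.H20.RIM.Tw

/-!
# S4816, layer (B), `q = p = 3`, `n = 4`: a generic vector with `|Tw L a w| = 2` (helper994)

`gen_four` : the count of `H20/RIM/Tw.lean : exists_gen` is too weak for `(Q, n, i) = (3, 4, 1)`; only the classes whose
representative has square `1` have eigenvectors, and the Gauss sum of the quadratic form leaves at most `35` of the `63`.
-/

set_option autoImplicit false
set_option linter.unusedSectionVars false

open scoped commutatorElement
open Module

namespace Cfsg.Agent.H994.RIM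

open Cfsg.Agent.H586.NX
open Cfsg.Agent.H20.GWX
open Cfsg.Agent.H684.GW (FD exists_FD)
open Cfsg.Agent.H684.GW.FD
open Cfsg.Agent.H921.NX (B_zero_left B_zero_right B_neg_right B_neg_left B_swap perp mem_perp card_perp exists_nonperp exists_ext
  mem_Tw exists_T Good eig mem_eig sq_scal anti ext_iso exists_mem_perp)
open Cfsg.Agent.H20.RIM (exists_good ncard_bad)

universe u v

section Sg

variable {p q r n : ℕ} {G : Type v} {W : Type u} {Y U : Type*} [Group G] [Finite G] [AddCommGroup W] [Finite W]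
    [DistribMulAction G W] [Group Y] [Finite Y] [AddCommGroup U] [Finite U] [DistribMulAction Y U]
    {L Z : Subgroup G} {π : G →* Y} {a : L →* Multiplicative U} {X : Subgroup Y} {B : U → U → ZMod 2}
    {F : Type u} [Field F] [Finite F] [Module F W]

/-- the square of the representative -/
noncomputable def dd (h : LB (W := W) p q 2 n L Z π a B) (D : FD (W := W) F L) (u : U) : F :=
  (sq_scal h D (rep h.lx u)).choose

theorem dd_ne (h : LB (W := W) p q 2 n L Z π a B) (D : FD (W := W) F L) (u : U) : dd h D u ≠ 0 :=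
  (sq_scal h D (rep h.lx u)).choose_spec.1

theorem dd_spec (h : LB (W := W) p q 2 n L Z π a B) (D : FD (W := W) F L) (u : U) (w : W) :
    (rep h.lx u : G) • (rep h.lx u : G) • w = dd h D u • w :=
  (sq_scal h D (rep h.lx u)).choose_spec.2 w

theorem sq_one (hF : Nat.card F = 3) {c : F} (hc : c ≠ 0) : c * c = 1 := by
  have := Fintype.ofFinite F
  have h1 := FiniteField.pow_card_sub_one_eq_one c hc
  rw [← Nat.card_eq_fintype_card, hF] at h1
  rw [← h1]
  ring

theorem pm_one (hF : Nat.card F = 3) {c : F} (hc : c ≠ 0) : c = 1 ∨ c = -1 :=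
  mul_self_eq_one_iff.1 (sq_one hF hc)

theorem two_ne (hF : Nat.card F = 3) : (1 : F) ≠ -1 := by
  intro h1
  have := Fintype.ofFinite F
  have h2 : ((3 : ℕ) : F) = 0 := by
    rw [← hF, Nat.card_eq_fintype_card]
    exact Nat.cast_card_eq_zero F
  have h3 : (1 : F) = 0 := by
    push_cast at h2
    linear_combination h2 - h1
  exact one_ne_zero h3

/-- the sign of the form -/
def tt (B : U → U → ZMod 2) (u v : U) : ℤ := if B u v = 0 then 1 else -1

/-- the sign of the square -/
noncomputable def sg (h : LB (W := W) p q 2 n L Z π a B) (D : FD (W := W) F L) (u : U) : ℤ := by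
  classical
  exact if dd h D u = 1 then 1 else -1

theorem sg_cases (h : LB (W := W) p q 2 n L Z π a B) (D : FD (W := W) F L) (u : U) : sg h D u = 1 ∨ sg h D u = -1 := by
  unfold sg
  split_ifs
  · exact Or.inl rfl
  · exact Or.inr rfl

theorem sg_mul_self (h : LB (W := W) p q 2 n L Z π a B) (D : FD (W := W) F L) (u : U) : sg h D u * sg h D u = 1 := by
  rcases sg_cases h D u with h1 | h1 <;> rw [h1] <;> rfl

theorem sg_one_iff (h : LB (W := W) p q 2 n L Z π a B) (D : FD (W := W) F L) (u : U) : sg h D u = 1 ↔ dd h D u = 1 := by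
  unfold sg
  split_ifs with h1
  · exact ⟨fun _ => h1, fun _ => rfl⟩
  · exact ⟨fun h2 => absurd h2 (by norm_num), fun h2 => absurd h2 h1⟩

/-- the scalar of a sum -/
theorem dd_add (hF : Nat.card F = 3) (h : LB (W := W) p q 2 n L Z π a B) (D : FD (W := W) F L) (u v : U) :
    dd h D (u + v) = (if B u v = 0 then (1 : F) else -1) * (dd h D u * dd h D v) := by
  have := h.lx.nt
  have hra : ∀ u : U, Multiplicative.toAdd (a (rep h.lx u)) = u := fun u => by rw [a_rep h.lx D]; rfl
  set l := rep h.lx u with hl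
  set m := rep h.lx v with hm
  set k := rep h.lx (u + v) with hk
  have hak : a k = a (l * m) := by
    rw [map_mul, hk, hl, hm, a_rep h.lx D, a_rep h.lx D, a_rep h.lx D]
    rfl
  obtain ⟨c, hc⟩ := op_of_a h.lx D hak
  have hc' : ∀ w : W, (k : G) • w = c • (l : G) • (m : G) • w := by
    intro w
    have h3 := LinearMap.congr_fun hc w
    rw [LinearMap.smul_apply] at h3
    have h4 : (k : G) • w = c • ((l * m : L) : G) • w := h3
    rw [h4, Subgroup.coe_mul, mul_smul]
  obtain ⟨w, hw⟩ := exists_ne (0 : W)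
  have hc0 : c ≠ 0 := by
    rintro rfl
    have h3 := hc' w
    rw [zero_smul, smul_eq_zero_iff_eq] at h3
    exact hw h3
  have hcc := sq_one hF hc0
  have hz : ∀ w : W, (m : G) • (l : G) • w = (if B u v = 0 then (1 : F) else -1) • (l : G) • (m : G) • w := by
    intro w
    split_ifs with hB
    · rw [one_smul]
      rw [← hra u, ← hra v] at hB
      exact ((h.form l m).1 hB w).symm
    · rw [← hra u, ← hra v] at hB
      rw [(anti h D hB).1 w, neg_smul, one_smul, neg_neg]
  have h1 : dd h D (u + v) • w = ((if B u v = 0 then (1 : F) else -1) * (dd h D u * dd h D v)) • w := by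
    rw [← dd_spec h D (u + v) w, ← hk, hc', hc', D.lin m m.2, D.lin l l.2, smul_smul, hcc, one_smul, hz, D.lin l l.2,
      dd_spec h D u, dd_spec h D v, smul_smul, smul_smul, mul_assoc]
  have h2 : (dd h D (u + v) - (if B u v = 0 then (1 : F) else -1) * (dd h D u * dd h D v)) • w = 0 := by
    rw [sub_smul, h1, sub_self]
  exact sub_eq_zero.1 ((smul_eq_zero.1 h2).resolve_right hw)

theorem sg_add (hF : Nat.card F = 3) (h : LB (W := W) p q 2 n L Z π a B) (D : FD (W := W) F L) (u v : U) :
    sg h D (u + v) = tt B u v * (sg h D u * sg h D v) := by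
  have h1 := two_ne hF
  have h2 := dd_add hF h D u v
  unfold sg tt
  rw [h2]
  rcases pm_one hF (dd_ne h D u) with h3 | h3 <;> rcases pm_one hF (dd_ne h D v) with h4 | h4 <;> rw [h3, h4] <;>
    by_cases h5 : B u v = 0 <;> simp [h5, h1.symm]

theorem tt_add (S : SX (U := U) p r 2 n X B) (u u' v : U) : tt B (u + u') v = tt B u v * tt B u' v := by
  unfold tt
  rw [S.addl]
  generalize B u v = x
  generalize B u' v = y
  revert x y
  decide

theorem sum_tt (S : SX (U := U) p r 2 n X B) {T : AddSubgroup U} [Fintype (perp S T)] {v : U} (hv : v ∉ T) :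
    ∑ u : perp S T, tt B (u : U) v = 0 := by
  obtain ⟨u0, hu0, hne⟩ := exists_nonperp S hv
  have h1 : ∑ u : perp S T, tt B (u : U) v = ∑ u : perp S T, tt B u0 v * tt B (u : U) v := by
    rw [← Equiv.sum_comp (Equiv.addLeft (⟨u0, hu0⟩ : perp S T))]
    refine Finset.sum_congr rfl fun u _ => ?_
    exact tt_add S u0 u v
  rw [← Finset.mul_sum] at h1
  have h2 : tt B u0 v = -1 := if_neg hne
  rw [h2] at h1
  linarith

/-- the Gauss sum -/
theorem sum_sg (hF : Nat.card F = 3) (h : LB (W := W) p q 2 n L Z π a B) (D : FD (W := W) F L)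
    (S : SX (U := U) p r 2 n X B) {T : AddSubgroup U} (hTP : T ≤ perp S T) (hT : ∀ t ∈ T, sg h D t = 1)
    [Fintype (perp S T)] :
    (∑ u : perp S T, sg h D (u : U)) ^ 2 = (Nat.card (perp S T) : ℤ) * Nat.card T := by
  classical
  have h1 : (∑ u : perp S T, sg h D (u : U)) ^ 2 =
      ∑ u : perp S T, ∑ v : perp S T, tt B (u : U) (v : U) * sg h D (v : U) := by
    rw [pow_two, Finset.sum_mul_sum]
    refine Finset.sum_congr rfl fun u _ => ?_
    rw [← Equiv.sum_comp (Equiv.addLeft u)]
    refine Finset.sum_congr rfl fun v _ => ?_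
    have h2 : sg h D ((Equiv.addLeft u v : perp S T) : U) = tt B u v * (sg h D u * sg h D v) := sg_add hF h D u v
    rw [h2]
    have h3 := sg_mul_self h D (u : U)
    linear_combination (tt B u v * sg h D v) * h3
  rw [h1, Finset.sum_comm]
  have h4 : ∀ v : perp S T, ∑ u : perp S T, tt B (u : U) (v : U) * sg h D (v : U) =
      if (v : U) ∈ T then (Nat.card (perp S T) : ℤ) else 0 := by
    intro v
    rw [← Finset.sum_mul]
    split_ifs with hv
    · rw [hT _ hv, mul_one]
      have h5 : ∀ u : perp S T, tt B (u : U) (v : U) = 1 := fun u => if_pos (u.2 _ hv)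
      rw [Finset.sum_congr rfl fun u _ => h5 u, Finset.sum_const, Finset.card_univ, Nat.card_eq_fintype_card,
        nsmul_eq_mul, mul_one]
    · rw [sum_tt S hv, zero_mul]
  rw [Finset.sum_congr rfl fun v _ => h4 v, ← Finset.sum_filter, Finset.sum_const, nsmul_eq_mul, mul_comm]
  congr 2
  rw [← Fintype.card_subtype, ← Nat.card_eq_fintype_card]
  exact Nat.card_congr (AddSubgroup.addSubgroupOfEquivOfLe hTP).toEquiv

theorem card_plus (hF : Nat.card F = 3) (h : LB (W := W) p q 2 n L Z π a B) (D : FD (W := W) F L)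
    (S : SX (U := U) p r 2 n X B) {T : AddSubgroup U} (hTP : T ≤ perp S T) (hT : ∀ t ∈ T, sg h D t = 1)
    (c2 : Nat.card T = 2) (cP : Nat.card (perp S T) = 128) : Nat.card {u : perp S T // sg h D (u : U) = 1} ≤ 72 := by
  classical
  have := Fintype.ofFinite (perp S T)
  have h1 := sum_sg hF h D S hTP hT
  rw [c2, cP] at h1
  have h2 : ∀ u : perp S T, sg h D (u : U) = 2 * (if sg h D (u : U) = 1 then 1 else 0) - 1 := by
    intro u
    rcases sg_cases h D (u : U) with h3 | h3 <;> rw [h3] <;> norm_num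
  have h3 : ∑ u : perp S T, sg h D (u : U) = 2 * (Nat.card {u : perp S T // sg h D (u : U) = 1} : ℤ) - 128 := by
    rw [Finset.sum_congr rfl fun u _ => h2 u, Finset.sum_sub_distrib, ← Finset.mul_sum, Finset.sum_boole,
      Finset.sum_const, Finset.card_univ, ← Nat.card_eq_fintype_card, cP, Nat.card_eq_fintype_card,
      Fintype.card_subtype]
    norm_num
  rw [h3] at h1
  by_contra h4
  push Not at h4
  have h5 : (73 : ℤ) ≤ (Nat.card {u : perp S T // sg h D (u : U) = 1} : ℤ) := by exact_mod_cast h4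
  have h6 := h1.trans (show ((128 : ℕ) : ℤ) * ((2 : ℕ) : ℤ) = 256 by norm_num)
  nlinarith [h6, h5]

/-- `q = p = 3`, `n = 4` -/
theorem gen_four (S : SX (U := U) 3 r 2 4 X B) (h : LB (W := W) 3 3 2 4 L Z π a B)
    (hW : Nat.card W = 3 ^ (2 ^ 4)) : ∃ w : W, w ≠ 0 ∧ Nat.card (Tw L a w) = 2 ^ 1 := by
  classical
  have hx := h.lx
  have := hx.nt
  obtain ⟨F, i1, i2, i3, D⟩ := exists_FD (W := W) hx.nL hx.irr
  have hF : Nat.card F = 3 := by
    have h1 := card_W h.lx D
    rw [hW] at h1
    exact (Nat.pow_left_injective (n := 2 ^ 4) (by norm_num) h1).symm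
  obtain ⟨T, E, g⟩ := exists_good h D S hW 1 (by norm_num)
  have hTP : T ≤ perp S T := fun u hu t ht => g.iso u hu t ht
  have cE : Nat.card E = 6561 := by
    rw [g.cE]
    norm_num
  have cT : Nat.card T = 2 := by
    rw [g.cT]
    norm_num
  have cP : Nat.card (perp S T) = 128 := by
    rw [card_perp S (i := 1) g.cT (by omega)]
    norm_num
  have hra : ∀ u : U, Multiplicative.toAdd (a (rep h.lx u)) = u := fun u => by rw [a_rep h.lx D]; rfl
  have hsq : ∀ (u : U) (w : W) (c : F), w ≠ 0 → (rep h.lx u : G) • w = c • w → dd h D u = c * c := by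
    intro u w c hw hc
    have h3 := dd_spec h D u w
    rw [hc, D.lin _ (rep h.lx u).2, hc, smul_smul] at h3
    have h4 : (dd h D u - c * c) • w = 0 := by rw [sub_smul, h3, sub_self]
    exact sub_eq_zero.1 ((smul_eq_zero.1 h4).resolve_right hw)
  have hsg : ∀ (u : U) (w : W), w ≠ 0 → (∃ c : F, (rep h.lx u : G) • w = c • w) → sg h D u = 1 := by
    rintro u w hw ⟨c, hc⟩
    have h3 := hsq u w c hw hc
    have hc0 : c ≠ 0 := by
      rintro rfl
      exact dd_ne h D u (by rw [h3, mul_zero])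
    rw [sg_one_iff, h3, sq_one hF hc0]
  have hE : ∃ w ∈ E, w ≠ 0 := by
    by_contra hcon
    push Not at hcon
    have h3 : Nat.card E ≤ 1 := by
      rw [Finite.card_le_one_iff_subsingleton]
      exact ⟨fun x y => Subtype.ext ((hcon x x.2).trans (hcon y y.2).symm)⟩
    rw [cE] at h3
    omega
  obtain ⟨w0, hw0E, hw00⟩ := hE
  have hT1 : ∀ t ∈ T, sg h D t = 1 := by
    intro t ht
    obtain ⟨c, hc⟩ := g.sc (rep h.lx t) (by rw [hra]; exact ht)
    exact hsg t w0 hw00 ⟨c, hc w0 hw0E⟩
  have c72 := card_plus hF h D S hTP hT1 cT cP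
  let P := perp S T
  let K : AddSubgroup P := T.addSubgroupOf P
  have cK : Nat.card K = 2 := by
    rw [← cT]
    exact Nat.card_congr (AddSubgroup.addSubgroupOfEquivOfLe hTP).toEquiv
  have hout : ∀ x : P ⧸ K, x ≠ 0 → ((Quotient.out x : P) : U) ∉ T := by
    intro x hx0 hxT
    apply hx0
    rw [← QuotientAddGroup.out_eq' x, QuotientAddGroup.eq_zero_iff]
    exact hxT
  let bad : P ⧸ K → Set W := fun x => {w | w ∈ E ∧ ((Quotient.out x : P) : U) ∈ Tw L a w}
  have := Fintype.ofFinite (P ⧸ K)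
  have := Fintype.ofFinite W
  let C : Finset (P ⧸ K) := Finset.univ.filter fun x => sg h D ((Quotient.out x : P) : U) = 1
  have c36 : C.card ≤ 36 := by
    let f : C × K → {u : perp S T // sg h D (u : U) = 1} := fun x => ⟨(Quotient.out (x.1 : P ⧸ K) : P) + (x.2 : P), by
      have h3 : sg h D ((Quotient.out (x.1 : P ⧸ K) : P) : U) = 1 := (Finset.mem_filter.1 x.1.2).2
      have h4 : ((x.2 : P) : U) ∈ T := x.2.2
      have h5 : tt B ((Quotient.out (x.1 : P ⧸ K) : P) : U) ((x.2 : P) : U) = 1 :=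
        if_pos ((Quotient.out (x.1 : P ⧸ K) : P).2 _ h4)
      have h6 := sg_add hF h D ((Quotient.out (x.1 : P ⧸ K) : P) : U) ((x.2 : P) : U)
      rw [h5, h3, hT1 _ h4] at h6
      exact h6⟩
    have hf : Function.Injective f := by
      rintro ⟨x1, x2⟩ ⟨y1, y2⟩ hxy
      have h3 : (Quotient.out (x1 : P ⧸ K) : P) + (x2 : P) = (Quotient.out (y1 : P ⧸ K) : P) + (y2 : P) :=
        congrArg Subtype.val hxy
      have h4 : (x1 : P ⧸ K) = y1 := by
        have h5 := congrArg (QuotientAddGroup.mk (s := K)) h3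
        rwa [QuotientAddGroup.mk_add_of_mem _ x2.2, QuotientAddGroup.mk_add_of_mem _ y2.2, QuotientAddGroup.out_eq',
          QuotientAddGroup.out_eq'] at h5
      rw [h4, add_right_inj] at h3
      exact Prod.ext (Subtype.ext h4) (Subtype.ext h3)
    have h3 := Nat.card_le_card_of_injective f hf
    rw [Nat.card_prod, cK, Nat.card_eq_fintype_card, Fintype.card_coe] at h3
    omega
  have h0C : (0 : P ⧸ K) ∈ C := by
    refine Finset.mem_filter.2 ⟨Finset.mem_univ _, hT1 _ ?_⟩
    have h3 : (QuotientAddGroup.mk (Quotient.out (0 : P ⧸ K) : P) : P ⧸ K) = 0 := QuotientAddGroup.out_eq' _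
    rw [QuotientAddGroup.eq_zero_iff] at h3
    exact h3
  have c35 : (C.erase 0).card ≤ 35 := by
    rw [Finset.card_erase_of_mem h0C]
    omega
  have hTwE : ∀ (u : U) (w : W), u ∈ Tw L a w → ∃ c : F, (rep h.lx u : G) • w = c • w := by
    intro u w hw
    obtain ⟨l', hl', c, hc⟩ := (mem_Tw D).1 hw
    have hal : a (rep h.lx u) = a l' := by
      apply Multiplicative.toAdd.injective
      rw [hra, hl']
    obtain ⟨d, hd⟩ := op_of_a h.lx D hal
    refine ⟨d * c, ?_⟩
    have h3 := LinearMap.congr_fun hd w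
    rw [LinearMap.smul_apply] at h3
    have h4 : (rep h.lx u : G) • w = d • (l' : G) • w := h3
    rw [h4, hc, smul_smul]
  obtain ⟨w, hwE, hw0, hwb⟩ : ∃ w ∈ E, w ≠ 0 ∧ ∀ x : P ⧸ K, x ≠ 0 → w ∉ bad x := by
    by_contra hcon
    push Not at hcon
    have h3 : (E : Set W).toFinset.erase 0 ⊆ (C.erase 0).biUnion fun x => (bad x).toFinset := by
      intro w hw
      rw [Finset.mem_erase, Set.mem_toFinset] at hw
      obtain ⟨x, hx0, hxw⟩ := hcon w hw.2 hw.1
      rw [Finset.mem_biUnion]
      refine ⟨x, Finset.mem_erase.2 ⟨hx0, Finset.mem_filter.2 ⟨Finset.mem_univ _, ?_⟩⟩, Set.mem_toFinset.2 hxw⟩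
      exact hsg _ w hw.1 (hTwE _ w hxw.2)
    have h4 := (Finset.card_le_card h3).trans (Finset.card_biUnion_le_card_mul _ _ (2 * 3 ^ (2 ^ (4 - 1 - 1))) (by
      intro x hx
      rw [← Set.ncard_eq_toFinset_card']
      exact ncard_bad h D g (by norm_num) (by norm_num) (Quotient.out x : P).2 (hout x (Finset.ne_of_mem_erase hx))))
    have h5 : ((E : Set W).toFinset).card = 6561 := by
      rw [← Set.ncard_eq_toFinset_card']
      exact cE
    rw [Finset.card_erase_of_mem (Set.mem_toFinset.2 E.zero_mem), h5] at h4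
    have h6 : (C.erase 0).card * (2 * 3 ^ (2 ^ (4 - 1 - 1))) ≤ 35 * (2 * 3 ^ (2 ^ (4 - 1 - 1))) :=
      Nat.mul_le_mul_right _ c35
    have h7 := h4.trans h6
    norm_num at h7
  refine ⟨w, hw0, ?_⟩
  obtain ⟨T', hT', iso', -⟩ := exists_T h hw0
  have hTT' : T ≤ T' := by
    intro t ht
    rw [← SetLike.mem_coe, hT', mem_Tw D]
    obtain ⟨c, hc⟩ := g.sc (rep h.lx t) (by rw [a_rep h.lx D]; exact ht)
    exact ⟨rep h.lx t, by rw [a_rep h.lx D]; rfl, c, hc w hwE⟩
  have hT'T : T' ≤ T := by
    intro v hv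
    by_contra hvT
    have hvP : v ∈ P := fun t ht => iso' v hv t (hTT' ht)
    have h3 : (QuotientAddGroup.mk (⟨v, hvP⟩ : P) : P ⧸ K) ≠ 0 := by
      intro h4
      rw [QuotientAddGroup.eq_zero_iff] at h4
      exact hvT h4
    apply hwb _ h3
    refine ⟨hwE, ?_⟩
    rw [← hT', SetLike.mem_coe]
    have h5 : -(Quotient.out (QuotientAddGroup.mk (⟨v, hvP⟩ : P) : P ⧸ K) : P) + ⟨v, hvP⟩ ∈ K := by
      rw [← QuotientAddGroup.eq]
      exact QuotientAddGroup.out_eq' _
    have h6 : -((Quotient.out (QuotientAddGroup.mk (⟨v, hvP⟩ : P) : P ⧸ K) : P) : U) + v ∈ T := h5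
    have h7 := T'.sub_mem hv (hTT' h6)
    have h8 : v - (-((Quotient.out (QuotientAddGroup.mk (⟨v, hvP⟩ : P) : P ⧸ K) : P) : U) + v) =
        ((Quotient.out (QuotientAddGroup.mk (⟨v, hvP⟩ : P) : P ⧸ K) : P) : U) := by abel
    rwa [h8] at h7
  rw [← hT', ← g.cT, le_antisymm hT'T hTT']
  rfl

end Sg

end Cfsg.Agent.H994.RIM
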